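import Groth.Agent.Lib.HSheafCrit4.Main
import Groth.Agent.Lib.HTop.VSheaf
import Groth.Agent.S7292
import Mathlib.CategoryTheory.Limits.Types.Filtered

/-! # Limit-preserving h sheaves are V sheaves -/

set_option backward.isDefEq.respectTransparency false

universe w w' u

open CategoryTheory CategoryTheory.Limits AlgebraicGeometry Opposite TopologicalSpace

namespace GrothLib.VSheafCrit4

open _root_.HTop GrothLib.HTop GrothLib.HSheafCrit4

variable {S : Scheme.{u}} {F : (Over S)ᵒᵖ ⥤ Type w}

theorem map_forget_singleton {A B : Over S} (f : B ⟶ A) :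
    (Presieve.singleton f).map (Over.forget S) = Presieve.singleton f.left := by
  refine le_antisymm ?_ ?_
  · rintro _ _ ⟨_, ⟨⟩⟩; exact ⟨⟩
  · rintro _ _ ⟨⟩; exact Presieve.map.of (F := Over.forget S) (Presieve.singleton.mk (f := f))

theorem map_comp_op {X Y Z : Over S} (u : X ⟶ Y) (v : Y ⟶ Z) (y : F.obj (op Z)) :
    F.map (u ≫ v).op y = F.map u.op (F.map v.op y) := by
  rw [op_comp, F.map_comp]; rfl

theorem isSheafFor_singleton_standardV (h1 : IsHSheafOver S F)
    (h2 : ∀ (I : Type u) [SmallCategory I] [IsCofiltered I] (D : I ⥤ Over S),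
      (∀ i, IsAffine (D.obj i).left) → ∀ (c : Cone D), IsLimit ((Over.forget S).mapCone c) →
        Nonempty (IsColimit (F.mapCocone c.op)))
    {A X : Over S} [IsAffine A.left] [IsAffine X.left] (f : X ⟶ A)
    (hf : IsStandardV (PreZeroHypercover.singleton.{0} f.left)) :
    Presieve.IsSheafFor F (Presieve.singleton f) := by
  obtain ⟨I, i1, i2, D, c, hc, e, hA, hH⟩ :=
    ((Groth.Agent.S7292.result.{0} f.left).out 0 2).1 hf
  let Φ := CategoryTheory.Over.map A.hom
  let D' : I ⥤ Over S := D ⋙ Φ
  let c' : Cone D' := Φ.mapCone c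
  haveI : ∀ i, IsAffine (D'.obj i).left := hA
  have hc' : IsLimit ((Over.forget S).mapCone c') :=
    IsLimit.ofIsoLimit hc (Cone.ext (Iso.refl _) fun i => (Category.id_comp _).symm)
  let ψ : ∀ i, D'.obj i ⟶ A := fun i => Over.homMk (D.obj i).hom rfl
  let γ : X ⟶ c'.pt := Over.homMk e.inv.left (by
    show e.inv.left ≫ c.pt.hom ≫ A.hom = X.hom
    rw [← Category.assoc, show e.inv.left ≫ c.pt.hom = f.left from Over.w e.inv]
    exact Over.w f)
  haveI : IsIso γ.left := (Over.forget A.left).map_isIso e.inv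
  haveI : IsIso γ := by
    haveI : IsIso ((Over.forget S).map γ) := inferInstanceAs (IsIso γ.left)
    exact CategoryTheory.isIso_of_reflects_iso γ (Over.forget S)
  have hψ : ∀ {i j : I} (a : i ⟶ j), D'.map a ≫ ψ j = ψ i := fun a =>
    Over.OverMorphism.ext (Over.w (D.map a))
  let π : ∀ i, X ⟶ D'.obj i := fun i => γ ≫ c'.π.app i
  have hπ : ∀ i, π i ≫ ψ i = f := fun i => Over.OverMorphism.ext (by
    show (e.inv.left ≫ (c.π.app i).left) ≫ (D.obj i).hom = f.left
    rw [Category.assoc]
    exact (congrArg (e.inv.left ≫ ·) (Over.w (c.π.app i))).trans (Over.w e.inv))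
  have hπm : ∀ {i j : I} (a : i ⟶ j), π i ≫ D'.map a = π j := fun a => by
    simp only [π, Category.assoc, c'.w a]
  let hcol : IsColimit (F.mapCocone c'.op) := (h2 I D' hA c' hc').some
  have surj : ∀ x : F.obj (op X), ∃ (i : I) (y : F.obj (op (D'.obj i))), F.map (π i).op y = x := by
    intro x
    obtain ⟨i, y, hy⟩ := Types.jointly_surjective _ hcol (F.map (inv γ).op x)
    refine ⟨i.unop, y, ?_⟩
    have hy' : F.map (c'.π.app i.unop).op y = F.map (inv γ).op x := hy
    show F.map (γ ≫ c'.π.app i.unop).op y = x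
    rw [map_comp_op]
    refine (congrArg (F.map γ.op) hy').trans ?_
    rw [← map_comp_op, IsIso.hom_inv_id, op_id, F.map_id]
    rfl
  have inj : ∀ (i : I) (y₁ y₂ : F.obj (op (D'.obj i))), F.map (π i).op y₁ = F.map (π i).op y₂ →
      ∃ (k : I) (a : k ⟶ i), F.map (D'.map a).op y₁ = F.map (D'.map a).op y₂ := by
    intro i y₁ y₂ h
    have h' : F.map (c'.π.app i).op y₁ = F.map (c'.π.app i).op y₂ := by
      have := congrArg (F.map (inv γ).op) h
      rw [← comp_apply, ← F.map_comp, ← comp_apply, ← F.map_comp, ← op_comp] at this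
      simpa [π] using this
    obtain ⟨k, a, b, hk⟩ := (Types.FilteredColimit.isColimit_eq_iff _ hcol (i := op i) (j := op i)).1 h'
    obtain ⟨l, t, ht⟩ := IsFilteredOrEmpty.cocone_maps a b
    refine ⟨l.unop, (a ≫ t).unop, ?_⟩
    have e1 : D'.map (a ≫ t).unop = D'.map t.unop ≫ D'.map a.unop := D'.map_comp _ _
    have e2 : D'.map (a ≫ t).unop = D'.map t.unop ≫ D'.map b.unop := by rw [ht]; exact D'.map_comp _ _
    refine Eq.trans ?_ ((congrArg (F.map (D'.map t.unop).op) hk).trans ?_)
    · rw [e1, map_comp_op]; rfl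
    · rw [e2, map_comp_op]; rfl
  have hh : ∀ i, Presieve.IsSheafFor F (Presieve.singleton (ψ i)) := fun i => h1 _ (by
    rw [map_forget_singleton, ← Presieve.ofArrows_pUnit.{0}]
    exact (presieve₀_mem_hPrecoverage_iff (PreZeroHypercover.singleton.{0} (D.obj i).hom)).2 (hH i))
  obtain ⟨i₀⟩ : Nonempty I := IsCofiltered.nonempty
  rw [Presieve.isSheafFor_singleton]
  intro x hx
  obtain ⟨i, y, rfl⟩ := surj x
  -- the system of fibre products
  let P : I ⥤ Over S :=
    { obj := fun k => Over.mk (pullback.fst (D.obj k).hom (D.obj k).hom ≫ (D'.obj k).hom)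
      map := fun {k l} a => Over.homMk (pullback.map _ _ _ _ (D.map a).left (D.map a).left (𝟙 _)
          (by rw [Category.comp_id, Over.w]) (by rw [Category.comp_id, Over.w])) (by
        show pullback.map _ _ _ _ _ _ _ _ _ ≫ pullback.fst _ _ ≫ (D.obj l).hom ≫ A.hom =
          pullback.fst _ _ ≫ (D.obj k).hom ≫ A.hom
        rw [pullback.lift_fst_assoc, Category.assoc, reassoc_of% (Over.w (D.map a))])
      map_id := fun k => by ext1; apply pullback.hom_ext <;> simp
      map_comp := fun a b => by ext1; apply pullback.hom_ext <;> simp }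
  let r₁ : ∀ k, P.obj k ⟶ D'.obj k := fun k => Over.homMk (pullback.fst _ _) rfl
  let r₂ : ∀ k, P.obj k ⟶ D'.obj k := fun k => Over.homMk (pullback.snd _ _) (by
    show pullback.snd _ _ ≫ (D.obj k).hom ≫ A.hom = pullback.fst _ _ ≫ (D.obj k).hom ≫ A.hom
    rw [pullback.condition_assoc])
  have hr₁ : ∀ {k l : I} (a : k ⟶ l), P.map a ≫ r₁ l = r₁ k ≫ D'.map a := fun a =>
    Over.OverMorphism.ext (pullback.lift_fst _ _ _)
  have hr₂ : ∀ {k l : I} (a : k ⟶ l), P.map a ≫ r₂ l = r₂ k ≫ D'.map a := fun a =>
    Over.OverMorphism.ext (pullback.lift_snd _ _ _)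
  haveI : ∀ k, IsAffine (P.obj k).left := fun k => by
    haveI := hA k
    exact inferInstanceAs (IsAffine (pullback (D.obj k).hom (D.obj k).hom))
  let Q : Over S := Over.mk (pullback.fst f.left f.left ≫ X.hom)
  let q₁ : Q ⟶ X := Over.homMk (pullback.fst _ _) rfl
  let q₂ : Q ⟶ X := Over.homMk (pullback.snd _ _) (by
    show pullback.snd _ _ ≫ X.hom = pullback.fst _ _ ≫ X.hom
    rw [← Over.w f, pullback.condition_assoc])
  have hq : q₁ ≫ f = q₂ ≫ f := Over.OverMorphism.ext pullback.condition
  have hπl : ∀ k, (π k).left ≫ (D.obj k).hom = f.left := fun k => congrArg CommaMorphism.left (hπ k)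
  let cP : Cone P :=
    { pt := Q
      π :=
        { app := fun k => Over.homMk (pullback.map _ _ _ _ (π k).left (π k).left (𝟙 _)
              (by rw [Category.comp_id, hπl]) (by rw [Category.comp_id, hπl])) (by
            show pullback.map _ _ _ _ _ _ _ _ _ ≫ pullback.fst _ _ ≫ (D.obj k).hom ≫ A.hom =
              pullback.fst _ _ ≫ X.hom
            rw [pullback.lift_fst_assoc, Category.assoc, reassoc_of% (hπl k), Over.w f])
          naturality := fun k l a => by
            ext1
            apply pullback.hom_ext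
            · simp [P, ← hπm a, D', Φ]
            · simp [P, ← hπm a, D', Φ] } }
  have hP : IsLimit ((Over.forget S).mapCone cP) := by
    let proj₁ : ∀ s : Cone (P ⋙ Over.forget S), Cone (D ⋙ Over.forget A.left) := fun s =>
      { pt := s.pt
        π := { app := fun k => s.π.app k ≫ pullback.fst _ _
               naturality := fun k l a => by
                 have := s.w a
                 simp only [Functor.comp_map, Over.forget_map] at this
                 simp [← this, P] } }
    let proj₂ : ∀ s : Cone (P ⋙ Over.forget S), Cone (D ⋙ Over.forget A.left) := fun s =>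
      { pt := s.pt
        π := { app := fun k => s.π.app k ≫ pullback.snd _ _
               naturality := fun k l a => by
                 have := s.w a
                 simp only [Functor.comp_map, Over.forget_map] at this
                 simp [← this, P] } }
    have fac : ∀ (t : Cone (D ⋙ Over.forget A.left)) (k : I),
        (hc.lift t ≫ inv γ.left) ≫ (π k).left = t.π.app k := fun t k => by
      show (hc.lift t ≫ inv γ.left) ≫ γ.left ≫ (c.π.app k).left = _
      rw [Category.assoc, IsIso.inv_hom_id_assoc]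
      exact hc.fac t k
    have ext' : ∀ {Z : Scheme.{u}} (u v : Z ⟶ X.left),
        (∀ k, u ≫ (π k).left = v ≫ (π k).left) → u = v := fun u v huv => by
      rw [← cancel_mono γ.left]
      refine hc.hom_ext fun k => ?_
      exact (Category.assoc _ _ _).trans ((huv k).trans (Category.assoc _ _ _).symm)
    refine ⟨fun s => pullback.lift (hc.lift (proj₁ s) ≫ inv γ.left) (hc.lift (proj₂ s) ≫ inv γ.left) ?_,
      fun s k => ?_, fun s m hm => ?_⟩
    · rw [← hπl i₀, ← Category.assoc, fac, ← Category.assoc, fac]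
      simp only [proj₁, proj₂, Category.assoc, pullback.condition]
    · show pullback.lift _ _ _ ≫ pullback.map f.left f.left (D.obj k).hom (D.obj k).hom (π k).left (π k).left
        (𝟙 _) (by rw [Category.comp_id, hπl]) (by rw [Category.comp_id, hπl]) = _
      apply pullback.hom_ext
      · rw [Category.assoc, pullback.lift_fst, pullback.lift_fst_assoc]
        exact fac (proj₁ s) k
      · rw [Category.assoc, pullback.lift_snd, pullback.lift_snd_assoc]
        exact fac (proj₂ s) k
    · apply pullback.hom_ext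
      · rw [pullback.lift_fst]
        refine ext' _ _ fun k => ?_
        rw [fac]
        show (m ≫ pullback.fst _ _) ≫ (π k).left = s.π.app k ≫ pullback.fst _ _
        rw [← hm k]
        simp [cP]
      · rw [pullback.lift_snd]
        refine ext' _ _ fun k => ?_
        rw [fac]
        show (m ≫ pullback.snd _ _) ≫ (π k).left = s.π.app k ≫ pullback.snd _ _
        rw [← hm k]
        simp [cP]
  let hcolP : IsColimit (F.mapCocone cP.op) := (h2 I P inferInstance cP hP).some
  have hcP₁ : cP.π.app i ≫ r₁ i = q₁ ≫ π i := Over.OverMorphism.ext (pullback.lift_fst _ _ _)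
  have hcP₂ : cP.π.app i ≫ r₂ i = q₂ ≫ π i := Over.OverMorphism.ext (pullback.lift_snd _ _ _)
  have hQeq : F.map (cP.π.app i).op (F.map (r₁ i).op y) = F.map (cP.π.app i).op (F.map (r₂ i).op y) := by
    rw [← map_comp_op, ← map_comp_op, hcP₁, hcP₂]
    exact (map_comp_op _ _ _).trans ((hx _ _ hq).trans (map_comp_op _ _ _).symm)
  obtain ⟨k, a, b, hk⟩ :=
    (Types.FilteredColimit.isColimit_eq_iff _ hcolP (i := op i) (j := op i)).1 hQeq
  obtain ⟨l, t, ht⟩ := IsFilteredOrEmpty.cocone_maps a b
  let d : l.unop ⟶ i := (a ≫ t).unop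
  have hl : F.map (r₁ l.unop).op (F.map (D'.map d).op y) = F.map (r₂ l.unop).op (F.map (D'.map d).op y) := by
    have e1 : P.map d = P.map t.unop ≫ P.map a.unop := P.map_comp _ _
    have e2 : P.map d = P.map t.unop ≫ P.map b.unop := by
      show P.map (a ≫ t).unop = _
      rw [ht]; exact P.map_comp _ _
    rw [← map_comp_op, ← map_comp_op, ← hr₁ d, ← hr₂ d, map_comp_op, map_comp_op]
    refine Eq.trans ?_ ((congrArg (F.map (P.map t.unop).op) hk).trans ?_)
    · rw [e1, map_comp_op]; rfl
    · rw [e2, map_comp_op]; rfl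
  obtain ⟨z, hz, hzu⟩ := (Presieve.isSheafFor_singleton.1 (hh l.unop)) (F.map (D'.map d).op y)
    (fun {Z} p₁ p₂ hp => by
      let L : Z ⟶ P.obj l.unop := Over.homMk (pullback.lift p₁.left p₂.left (congrArg CommaMorphism.left hp)) (by
        show pullback.lift _ _ _ ≫ pullback.fst _ _ ≫ (D'.obj l.unop).hom = Z.hom
        rw [pullback.lift_fst_assoc]
        exact Over.w p₁)
      have e₁ : L ≫ r₁ l.unop = p₁ := Over.OverMorphism.ext (pullback.lift_fst _ _ _)
      have e₂ : L ≫ r₂ l.unop = p₂ := Over.OverMorphism.ext (pullback.lift_snd _ _ _)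
      rw [← e₁, ← e₂, op_comp, op_comp, F.map_comp, F.map_comp, comp_apply, comp_apply, hl])
  refine ⟨z, ?_, fun z' hz' => ?_⟩
  · show F.map f.op z = _
    rw [← hπ l.unop, op_comp, F.map_comp, comp_apply]
    show F.map (π l.unop).op (F.map (ψ l.unop).op z) = _
    rw [hz, ← comp_apply, ← F.map_comp, ← op_comp, hπm]
  · have hz₀ : F.map f.op z' = F.map (π i).op y := hz'
    have h3 : F.map (π l.unop).op (F.map (ψ l.unop).op z') =
        F.map (π l.unop).op (F.map (D'.map d).op y) := by
      rw [← comp_apply, ← F.map_comp, ← comp_apply, ← F.map_comp, ← op_comp, ← op_comp, hπ, hπm, hz₀]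
    obtain ⟨m, c₀, hm⟩ := inj l.unop _ _ h3
    refine (Presieve.isSheafFor_singleton.1 (hh m) (F.map (D'.map c₀).op (F.map (D'.map d).op y))
      fun {Z} p₁ p₂ hp => ?_).unique ?_ ?_
    · rw [← hz, ← map_comp_op (D'.map c₀), hψ c₀, ← map_comp_op, ← map_comp_op, hp]
    · rw [← hm, ← map_comp_op (D'.map c₀), hψ c₀]
    · rw [← hz, ← map_comp_op (D'.map c₀), hψ c₀]

end GrothLib.VSheafCrit4
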