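import Groth.Agent.Lib.VSheafCrit4.Main

/-! # From h sheaves over `S` to V sheaves over `S` -/

set_option backward.isDefEq.respectTransparency false

universe w w' u

open CategoryTheory CategoryTheory.Limits AlgebraicGeometry Opposite TopologicalSpace

namespace GrothLib.VSheafCrit4

open _root_.HTop GrothLib.HTop GrothLib.HSheafCrit4

variable {S : Scheme.{u}} {F : (Over S)ᵒᵖ ⥤ Type w}

theorem isSheaf_Jh_of_isHSheafOver (h1 : IsHSheafOver S F) : Presieve.IsSheaf (Jh S) F := by
  let J := Sheaf.finestTopologySingle F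
  suffices ∀ (X : Scheme.{u}) (T : Sieve X), T ∈ hTopology X → ∀ (Y : Over S) (e : Y.left ⟶ X),
      (Sieve.overEquiv Y).symm (T.pullback e) ∈ J Y by
    intro Y T hT
    have h := this Y.left _ ((GrothendieckTopology.mem_over_iff _ _).1 hT) Y (𝟙 _) Y (𝟙 _)
    rwa [Sieve.pullback_id, Sieve.pullback_id, OrderIso.symm_apply_apply] at h
  intro X T hT
  induction hT with
  | of X R hR =>
    intro Y e Z f
    rw [← Sieve.overEquiv_symm_pullback, ← Sieve.pullback_comp]
    rw [Precoverage.mem_iff_exists_zeroHypercover] at hR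
    obtain ⟨E, rfl⟩ := hR
    let e' : Z.left ⟶ X := f.left ≫ e
    show Presieve.IsSheafFor F ((Sieve.overEquiv Z).symm ((Sieve.generate E.presieve₀).pullback e')).arrows
    let E' := E.toPreZeroHypercover.pullback₁ e'
    have heq : (Sieve.generate E.presieve₀).pullback e' = Sieve.generate E'.presieve₀ := by
      refine Sieve.ext fun W g => ⟨?_, ?_⟩
      · rintro ⟨_, l, _, ⟨i⟩, hl⟩
        exact ⟨_, pullback.lift g l hl.symm, E'.f i, ⟨i⟩, pullback.lift_fst _ _ _⟩
      · rintro ⟨_, l, _, ⟨i⟩, rfl⟩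
        refine ⟨_, l ≫ pullback.snd e' (E.f i), E.f i, ⟨i⟩, ?_⟩
        show (l ≫ pullback.snd e' (E.f i)) ≫ E.f i = (l ≫ pullback.fst e' (E.f i)) ≫ e'
        rw [Category.assoc, Category.assoc, pullback.condition]
    rw [heq, Sieve.overEquiv_symm_generate, ← Presieve.isSheafFor_iff_generate]
    refine h1 _ ?_
    rw [Presieve.map_functorPullback_overForget]
    have hE : IsHCover E.toPreZeroHypercover := (presieve₀_mem_hPrecoverage_iff _).1 E.mem₀
    exact (presieve₀_mem_hPrecoverage_iff E').2 ⟨fun i => by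
      have := hE.1 i
      exact inferInstanceAs (LocallyOfFinitePresentation (pullback.fst e' (E.f i))),
      isVCover_pullback₁ e' _ hE.2⟩
  | top X =>
    intro Y e
    rw [Sieve.pullback_top]
    exact J.superset_covering (fun _ _ _ => trivial) (J.top_mem Y)
  | pullback X T _ Z f ih =>
    intro Y e
    rw [← Sieve.pullback_comp]
    exact ih Y (e ≫ f)
  | transitive X T R _ _ ih₁ ih₂ =>
    intro Y e
    refine J.transitive (ih₁ Y e) _ fun Z g hg => ?_
    rw [← Sieve.overEquiv_symm_pullback, ← Sieve.pullback_comp]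
    have h2 := ih₂ (f := g.left ≫ e) hg Z (𝟙 _)
    rwa [Sieve.pullback_id] at h2

theorem singleton_standardV_mem_finest (hZ : Presieve.IsSheaf (Scheme.zariskiTopology.over S) F)
    (h1 : IsHSheafOver S F)
    (h2 : ∀ (I : Type u) [SmallCategory I] [IsCofiltered I] (D : I ⥤ Over S),
      (∀ i, IsAffine (D.obj i).left) → ∀ (c : Cone D), IsLimit ((Over.forget S).mapCone c) →
        Nonempty (IsColimit (F.mapCocone c.op)))
    {U V : Over S} [IsAffine U.left] [IsAffine V.left] (f : V ⟶ U)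
    (hf : IsStandardV (PreZeroHypercover.singleton.{0} f.left)) :
    Sieve.generate (Presieve.singleton f) ∈ Sheaf.finestTopologySingle F U := by
  intro Y k
  refine isSheafFor_of_affine hZ _ fun A e hA => ?_
  let m : A ⟶ U := e ≫ k
  let Q : Over S := Over.mk (pullback.fst m.left f.left ≫ A.hom)
  let q : Q ⟶ A := Over.homMk (pullback.fst m.left f.left)
  let r : Q ⟶ V := Over.homMk (pullback.snd m.left f.left) (by
    show pullback.snd m.left f.left ≫ V.hom = pullback.fst m.left f.left ≫ A.hom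
    rw [← Over.w f, ← pullback.condition_assoc, Over.w m])
  have hsq : q ≫ m = r ≫ f := Over.OverMorphism.ext pullback.condition
  have heq : ((Sieve.generate (Presieve.singleton f)).pullback k).pullback e =
      Sieve.generate (Presieve.singleton q) := by
    refine Sieve.ext fun W h => ⟨?_, ?_⟩
    · rintro ⟨_, l, _, ⟨⟩, hl⟩
      have hl' : l ≫ f = h ≫ m := hl.trans (Category.assoc _ _ _)
      refine ⟨Q, Over.homMk (pullback.lift h.left l.left (congrArg CommaMorphism.left hl').symm) ?_, q,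
        ⟨⟩, Over.OverMorphism.ext (pullback.lift_fst _ _ _)⟩
      show pullback.lift _ _ _ ≫ pullback.fst _ _ ≫ A.hom = W.hom
      rw [pullback.lift_fst_assoc]
      exact Over.w h
    · rintro ⟨_, l, _, ⟨⟩, rfl⟩
      refine ⟨V, l ≫ r, f, ⟨⟩, ?_⟩
      rw [Category.assoc, ← hsq]
      simp [m]
  rw [heq, ← Presieve.isSheafFor_iff_generate]
  haveI : IsAffine Q.left := inferInstanceAs (IsAffine (pullback m.left f.left))
  have hV := isStandardV_pullback₁ m.left _ hf
  refine isSheafFor_singleton_standardV h1 h2 q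
    ⟨inferInstance, inferInstanceAs (Finite PUnit), fun j => hV.isAffine_obj PUnit.unit, fun W _ _ g => ?_⟩
  obtain ⟨W', i1, i2, φ, hφ, j, l, hl⟩ := hV.lift W g
  exact ⟨W', i1, i2, φ, hφ, PUnit.unit, l, hl⟩

theorem isVSheafOver (h1 : IsHSheafOver S F)
    (h2 : ∀ (I : Type u) [SmallCategory I] [IsCofiltered I] (D : I ⥤ Over S),
      (∀ i, IsAffine (D.obj i).left) → ∀ (c : Cone D), IsLimit ((Over.forget S).mapCone c) →
        Nonempty (IsColimit (F.mapCocone c.op))) : IsVSheafOver S F := by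
  have hZ : Presieve.IsSheaf (Scheme.zariskiTopology.over S) F :=
    (isSheaf_Jh_iff.1 (isSheaf_Jh_of_isHSheafOver h1)).1
  let J := Sheaf.finestTopologySingle F
  have hle : ∀ {Y : Over S} {T : Sieve Y}, T ∈ Scheme.zariskiTopology.over S Y → T ∈ J Y :=
    fun {Y T} hT Z f => hZ _ ((Scheme.zariskiTopology.over S).pullback_stable f hT)
  intro Y₀ R hR
  suffices Sieve.generate R ∈ J Y₀ by
    rw [Presieve.isSheafFor_iff_generate]
    simpa using this Y₀ (𝟙 _)
  rw [Precoverage.mem_iff_exists_zeroHypercover] at hR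
  obtain ⟨E, hE⟩ := hR
  have hEV : IsVCover E.toPreZeroHypercover := (presieve₀_mem_vPrecoverage_iff _).1 E.mem₀
  refine J.transitive (hle (affineSieve_mem Y₀)) _ ?_
  rintro Za fz ⟨Wa, l, fa, ⟨U⟩, rfl⟩
  rw [Sieve.pullback_comp]
  refine J.pullback_stable l ?_
  let A : Over S := openOver Y₀ U.1
  haveI : IsAffine A.left := U.2
  obtain ⟨G, hG, hr⟩ := vGood_of_isVCover hEV U.1.ι
  haveI := hG.finite_index
  haveI := hG.isAffine_obj
  let p : ∐ G.X ⟶ A.left := Sigma.desc G.f
  let X : Over S := Over.mk (p ≫ A.hom)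
  haveI : IsAffine X.left := inferInstanceAs (IsAffine (∐ G.X))
  let q : X ⟶ A := Over.homMk p
  have hq : IsStandardV (PreZeroHypercover.singleton.{0} q.left) := by
    refine ⟨inferInstance, inferInstanceAs (Finite PUnit), fun _ => inferInstanceAs (IsAffine (∐ G.X)),
      fun W _ _ g => ?_⟩
    obtain ⟨W', i1, i2, φ, hφ, j, m, hm⟩ := hG.lift W g
    refine ⟨W', i1, i2, φ, hφ, PUnit.unit, m ≫ Sigma.ι G.X j, ?_⟩
    show (m ≫ Sigma.ι G.X j) ≫ p = _
    rw [Category.assoc, Sigma.ι_desc]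
    exact hm
  show (Sieve.generate R).pullback (openOverι Y₀ U.1) ∈ J A
  refine J.transitive (singleton_standardV_mem_finest hZ h1 h2 q hq) _ ?_
  rintro Zb fb ⟨Wb, l', fc, ⟨⟩, rfl⟩
  rw [Sieve.pullback_comp]
  refine J.pullback_stable l' (hle ?_)
  rw [GrothendieckTopology.mem_over_iff]
  refine GrothendieckTopology.superset_covering _ ?_ (sigmaOpenCover G.X).mem_grothendieckTopology
  rintro Z _ ⟨_, t, _, ⟨j⟩, rfl⟩
  rw [Sieve.overEquiv_iff]
  obtain ⟨i, k, hk⟩ := hr j
  have hmem : R.map (Over.forget S) (E.f i) := by rw [hE]; exact ⟨i⟩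
  have hdec : ∀ {Z : Scheme.{u}} {z : Z ⟶ (Over.forget S).obj Y₀}, R.map (Over.forget S) z →
      ∃ (B : Over S) (b : B ⟶ Y₀) (u : Z ⟶ B.left), R b ∧ u ≫ b.left = z := by
    intro Z z hz
    obtain ⟨hb⟩ := hz
    exact ⟨_, _, 𝟙 _, hb, Category.id_comp _⟩
  obtain ⟨B, b, u, hb, hu⟩ := hdec hmem
  have key : (t ≫ k ≫ u) ≫ b.left = (t ≫ Sigma.ι G.X j) ≫ p ≫ U.1.ι := by
    simp only [Category.assoc, hu]
    refine congrArg (t ≫ ·) (hk.trans ?_)
    rw [← Category.assoc, Sigma.ι_desc]
  refine ⟨B, Over.homMk (t ≫ k ≫ u) ?_, b, hb, Over.OverMorphism.ext key⟩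
  show (t ≫ k ≫ u) ≫ B.hom = (t ≫ Sigma.ι G.X j) ≫ X.hom
  rw [← Over.w b, ← Category.assoc, key]
  simp only [X, A, openOver, Over.mk_hom, Category.assoc]

end GrothLib.VSheafCrit4
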